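import Mathlib

/-!
Self-orthogonal binary codes of length 24, dimension 12 and minimum weight at least 8 (abstract
Golay codes): the coset structure (covering radius 4, sextets), Steiner property, generation by
octads, divisibility of weights by 4.
-/

set_option autoImplicit false

namespace Cfsg.Agent.Lib.BinCode24

open Finset

variable {α : Type*} [Fintype α] [DecidableEq α]

/-- Support of a binary word. -/
def supp (w : α → ZMod 2) : Finset α := univ.filter fun i => w i ≠ 0

/-- Indicator word of a set. -/
def word (s : Finset α) : α → ZMod 2 := fun i => if i ∈ s then 1 else 0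

theorem supp_word (s : Finset α) : supp (word s) = s := by
  ext i; simp [supp, word]

theorem word_supp (w : α → ZMod 2) : word (supp w) = w := by
  funext i
  have : w i = 0 ∨ w i = 1 := by generalize w i = a; revert a; decide
  rcases this with h | h <;> simp [supp, word, h]

theorem hammingNorm_eq (w : α → ZMod 2) : hammingNorm w = (supp w).card := rfl

theorem hammingNorm_word (s : Finset α) : hammingNorm (word s) = s.card := by
  rw [hammingNorm_eq, supp_word]

omit [DecidableEq α] in
theorem sub_eq_add' (u v : α → ZMod 2) : u - v = u + v := by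
  funext i; simp [CharTwo.sub_eq_add]

theorem supp_sub (u v : α → ZMod 2) : supp (u - v) = symmDiff (supp u) (supp v) := by
  ext i
  simp only [supp, mem_filter, mem_univ, true_and, mem_symmDiff, Pi.sub_apply]
  generalize u i = a; generalize v i = b; revert a b; decide

theorem symmDiff_card (s t : Finset α) : (symmDiff s t).card + 2 * (s ∩ t).card = s.card + t.card := by
  have h1 := card_sdiff_add_card_inter s t
  have h2 := card_sdiff_add_card_inter t s
  rw [inter_comm t s] at h2
  have h3 : (symmDiff s t).card = (s \ t).card + (t \ s).card := by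
    rw [symmDiff_def, sup_eq_union, card_union_of_disjoint disjoint_sdiff_sdiff]
  omega

theorem card_words_weight (k : ℕ) :
    (univ.filter fun w : α → ZMod 2 => hammingNorm w = k).card = (Fintype.card α).choose k := by
  rw [← card_univ, ← card_powersetCard]
  refine card_bij' (fun w _ => supp w) (fun s _ => word s) ?_ ?_ ?_ ?_
  · intro w hw; rw [mem_powersetCard]; exact ⟨subset_univ _, (mem_filter.1 hw).2⟩
  · intro s hs; rw [mem_filter, hammingNorm_word]; exact ⟨mem_univ _, (mem_powersetCard.1 hs).2⟩
  · intro w _; exact word_supp w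
  · intro s _; exact supp_word s

/-- An abstract extended binary Golay code. -/
structure IsGolay (C : Submodule (ZMod 2) (α → ZMod 2)) : Prop where
  card_pts : Fintype.card α = 24
  dim : Module.finrank (ZMod 2) C = 12
  orth : ∀ v ∈ C, ∀ w ∈ C, ∑ i, v i * w i = 0
  min : ∀ w ∈ C, w ≠ 0 → 8 ≤ hammingNorm w

variable {C : Submodule (ZMod 2) (α → ZMod 2)}

/-- The words of weight at most 4 in the coset of `w`. -/
def smallReps (C : Submodule (ZMod 2) (α → ZMod 2)) (w : α → ZMod 2) : Set (α → ZMod 2) :=
  {u | u - w ∈ C ∧ hammingNorm u ≤ 4}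

theorem pair_facts (h : IsGolay C) {u v : α → ZMod 2} (huv : u - v ∈ C) (hne : u ≠ v)
    (hu : hammingNorm u ≤ 4) (hv : hammingNorm v ≤ 4) :
    hammingNorm u = 4 ∧ hammingNorm v = 4 ∧ Disjoint (supp u) (supp v) ∧
      supp (u - v) = supp u ∪ supp v := by
  have h8 := h.min _ huv (sub_ne_zero.2 hne)
  rw [hammingNorm_eq] at h8 hu hv ⊢
  rw [hammingNorm_eq]
  rw [supp_sub] at h8 ⊢
  have := symmDiff_card (supp u) (supp v)
  have hd : Disjoint (supp u) (supp v) := by
    rw [disjoint_iff_inter_eq_empty, ← card_eq_zero]; omega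
  refine ⟨by omega, by omega, hd, ?_⟩
  rw [hd.symmDiff_eq_sup]; rfl

/-- The coset types. -/
theorem coset_cases (h : IsGolay C) (w : α → ZMod 2) :
    (∃ u, smallReps C w = {u} ∧ hammingNorm u ≤ 3) ∨
      ((smallReps C w).ncard = 6 ∧ ∀ u ∈ smallReps C w, hammingNorm u = 4 ∧
        ∀ u' ∈ smallReps C w, u ≠ u' → Disjoint (supp u) (supp u')) := by
  classical
  let Q := (α → ZMod 2) ⧸ C
  have : Fintype Q := Fintype.ofFinite Q
  let π : (α → ZMod 2) → Q := Submodule.Quotient.mk
  have hQ : Fintype.card Q = 4096 := by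
    have h1 := Submodule.finrank_quotient_add_finrank C
    rw [Module.finrank_fintype_fun_eq_card, h.card_pts, h.dim] at h1
    have hr : Module.finrank (ZMod 2) Q = 12 := by
      show Module.finrank (ZMod 2) ((α → ZMod 2) ⧸ C) = 12
      omega
    rw [Module.card_eq_pow_finrank (K := ZMod 2) (V := Q), hr, ZMod.card]
    norm_num
  have hπ : ∀ u v, π u = π v ↔ u - v ∈ C := fun u v => Submodule.Quotient.eq C
  let L : Finset (α → ZMod 2) := univ.filter fun u => hammingNorm u ≤ 3
  let F : Finset (α → ZMod 2) := univ.filter fun u => hammingNorm u = 4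
  have hL : L.card = 2325 := by
    have e : L = (Finset.range 4).biUnion fun k => univ.filter fun u => hammingNorm u = k := by
      ext u; simp [L]; omega
    rw [e, card_biUnion]
    · simp [card_words_weight, h.card_pts, sum_range_succ, Nat.choose_two_right]
      decide
    · intro i _ j _ hij
      simp only [Function.onFun, disjoint_left, mem_filter, mem_univ, true_and]
      omega
  have hF : F.card = 10626 := by
    rw [card_words_weight, h.card_pts]; decide
  have hLinj : Set.InjOn π L := by
    intro u hu v hv e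
    simp only [L, coe_filter, mem_univ, true_and, Set.mem_setOf_eq] at hu hv
    by_contra hne
    have := pair_facts h ((hπ u v).1 e) hne (by omega) (by omega)
    omega
  have hFfib : ∀ c : Q, (F.filter fun u => π u = c).card ≤ 6 := by
    intro c
    set S := F.filter fun u => π u = c
    have hd : (S : Set (α → ZMod 2)).PairwiseDisjoint supp := by
      intro u hu v hv hne
      simp only [S, F, coe_filter, mem_filter, mem_univ, true_and, Set.mem_setOf_eq] at hu hv
      exact (pair_facts h ((hπ u v).1 (hu.2.trans hv.2.symm)) hne (by omega) (by omega)).2.2.1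
    have h1 : (S.biUnion supp).card ≤ 24 := h.card_pts ▸ card_le_univ _
    rw [card_biUnion hd, sum_const_nat (m := 4)] at h1
    · omega
    · intro u hu
      simp only [S, F, mem_filter, mem_univ, true_and] at hu
      exact hu.1
  let light : Finset Q := L.image π
  have hlight : light.card = 2325 := by rw [card_image_of_injOn hLinj, hL]
  have hFmaps : ∀ u ∈ F, π u ∈ lightᶜ := by
    intro u hu
    simp only [light, L, mem_compl, mem_image, mem_filter, mem_univ, true_and, not_exists, not_and]
    intro v hv e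
    simp only [F, mem_filter, mem_univ, true_and] at hu
    have hne : v ≠ u := by rintro rfl; omega
    have := pair_facts h ((hπ v u).1 e) hne (by omega) (by omega)
    omega
  have hsum := card_eq_sum_card_fiberwise (f := π) (s := F) (t := lightᶜ) hFmaps
  have hcompl : lightᶜ.card = 1771 := by rw [card_compl, hQ, hlight]
  have hsix : ∀ c ∈ lightᶜ, (F.filter fun u => π u = c).card = 6 := by
    refine (sum_eq_sum_iff_of_le fun c _ => hFfib c).1 ?_
    rw [← hsum, hF, sum_const, hcompl]; rfl
  by_cases hw : π w ∈ light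
  · left
    simp only [light, L, mem_image, mem_filter, mem_univ, true_and] at hw
    obtain ⟨u, hu, e⟩ := hw
    refine ⟨u, Set.eq_singleton_iff_unique_mem.2 ⟨⟨(hπ u w).1 e, by omega⟩, ?_⟩, hu⟩
    intro v hv
    by_contra hne
    have e2 : π v = π u := ((hπ v w).2 hv.1).trans e.symm
    have := pair_facts h ((hπ v u).1 e2) hne hv.2 (by omega)
    omega
  · right
    have hset : smallReps C w = (F.filter fun u => π u = π w : Finset (α → ZMod 2)) := by
      ext u
      simp only [smallReps, Set.mem_setOf_eq, F, coe_filter, mem_filter, mem_univ, true_and]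
      constructor
      · rintro ⟨hu, hu4⟩
        refine ⟨?_, (hπ u w).2 hu⟩
        by_contra hne
        apply hw
        simp only [light, L, mem_image, mem_filter, mem_univ, true_and]
        exact ⟨u, by omega, (hπ u w).2 hu⟩
      · rintro ⟨hu, e⟩; exact ⟨(hπ u w).1 e, hu.le⟩
    refine ⟨by rw [hset, Set.ncard_coe_finset]; exact hsix _ (mem_compl.2 hw), fun u hu => ?_⟩
    rw [hset, mem_coe, mem_filter] at hu
    obtain ⟨hu1, hu2⟩ := hu
    simp only [F, mem_filter, mem_univ, true_and] at hu1
    refine ⟨hu1, fun v hv hne => (pair_facts h ?_ hne hu1.le hv.2).2.2.1⟩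
    exact (hπ u v).1 (hu2.trans ((hπ v w).2 hv.1).symm)

/-- A tetrad has exactly six companions, itself included, partitioning the points. -/
theorem tetrad_partition (h : IsGolay C) {T : Finset α} (hT : T.card = 4) :
    (smallReps C (word T)).ncard = 6 ∧ word T ∈ smallReps C (word T) ∧
      (∀ u ∈ smallReps C (word T), hammingNorm u = 4 ∧
        ∀ u' ∈ smallReps C (word T), u ≠ u' → Disjoint (supp u) (supp u')) ∧
      ∀ i : α, ∃ u ∈ smallReps C (word T), i ∈ supp u := by
  classical
  have hmem : word T ∈ smallReps C (word T) :=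
    ⟨by simp, by rw [hammingNorm_word]; omega⟩
  rcases coset_cases h (word T) with ⟨u, hu, hu3⟩ | ⟨h6, hall⟩
  · exfalso
    rw [hu, Set.mem_singleton_iff] at hmem
    rw [← hmem, hammingNorm_word] at hu3; omega
  refine ⟨h6, hmem, hall, fun i => ?_⟩
  obtain ⟨S, hS⟩ : ∃ S : Finset (α → ZMod 2), ↑S = smallReps C (word T) :=
    (Set.toFinite _).exists_finset_coe
  have hd : (S : Set (α → ZMod 2)).PairwiseDisjoint supp := by
    rw [hS]; exact fun u hu v hv hne => (hall u hu).2 v hv hne
  have : S.biUnion supp = univ := by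
    refine eq_univ_of_card _ ?_
    rw [card_biUnion hd, sum_const_nat (m := 4), h.card_pts]
    · have : S.card = 6 := by rw [← Set.ncard_coe_finset, hS, h6]
      omega
    · intro u hu
      exact (hall u (hS ▸ hu)).1
  obtain ⟨u, hu, hiu⟩ := mem_biUnion.1 (this ▸ mem_univ i)
  exact ⟨u, hS ▸ hu, hiu⟩

/-- Two tetrads of a sextet unite to a weight-8 word. -/
theorem octad_of_reps (h : IsGolay C) {T : Finset α} (hT : T.card = 4) {u : α → ZMod 2}
    (hu : u ∈ smallReps C (word T)) (hne : u ≠ word T) :
    ∃ w ∈ C, hammingNorm w = 8 ∧ supp w = T ∪ supp u ∧ Disjoint T (supp u) := by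
  have hwt : hammingNorm (word T) = 4 := by rw [hammingNorm_word, hT]
  obtain ⟨-, hu4, hd, hs⟩ := pair_facts h (u := word T) (v := u)
    (by simpa using C.neg_mem hu.1) hne.symm hwt.le hu.2
  rw [supp_word] at hd hs
  refine ⟨word T - u, by simpa using C.neg_mem hu.1, ?_, hs, hd⟩
  rw [hammingNorm_eq, hs, card_union_of_disjoint hd, hT]
  rw [hammingNorm_eq] at hu4; omega

theorem existsUnique_octad (h : IsGolay C) {s : Finset α} (hs : s.card = 5) :
    ∃! w, (w ∈ C ∧ hammingNorm w = 8) ∧ s ⊆ supp w := by
  obtain ⟨p, hp⟩ : s.Nonempty := card_pos.1 (by omega)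
  have hT : (s.erase p).card = 4 := by rw [card_erase_of_mem hp]; omega
  obtain ⟨-, hmem, hall, hcov⟩ := tetrad_partition h hT
  obtain ⟨u, hu, hpu⟩ := hcov p
  have hne : u ≠ word (s.erase p) := by rintro rfl; simp [supp_word] at hpu
  obtain ⟨w, hwC, hw8, hws, -⟩ := octad_of_reps h hT hu hne
  refine ⟨w, ⟨⟨hwC, hw8⟩, ?_⟩, ?_⟩
  · rw [hws]
    intro i hi
    by_cases hip : i = p
    · exact mem_union_right _ (hip ▸ hpu)
    · exact mem_union_left _ (mem_erase.2 ⟨hip, hi⟩)
  · rintro w' ⟨⟨hw'C, hw'8⟩, hsw'⟩
    by_contra hne'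
    have h8 := h.min _ (C.sub_mem hw'C hwC) (sub_ne_zero.2 hne')
    have h5 : s ⊆ supp w' ∩ supp w := by
      refine subset_inter hsw' ?_
      rw [hws]
      intro i hi
      by_cases hip : i = p
      · exact mem_union_right _ (hip ▸ hpu)
      · exact mem_union_left _ (mem_erase.2 ⟨hip, hi⟩)
    have := card_le_card h5
    have := symmDiff_card (supp w') (supp w)
    rw [hammingNorm_eq] at hw8 hw'8 h8
    rw [supp_sub] at h8
    omega

theorem dot_word (v : α → ZMod 2) (w : α → ZMod 2) :
    ∑ i, w i * v i = ((supp w ∩ supp v).card : ZMod 2) := by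
  rw [cast_card]
  conv_lhs => rw [← word_supp w, ← word_supp v]
  symm
  rw [← sum_filter_add_sum_filter_not univ (fun i => i ∈ supp w ∩ supp v)]
  have : ∀ i : α, i ∉ supp w ∩ supp v → word (supp w) i * word (supp v) i = 0 := by
    intro i hi; rw [mem_inter] at hi; simp only [word]; split_ifs <;> simp_all
  rw [sum_eq_zero (s := univ.filter fun i => ¬ i ∈ supp w ∩ supp v)
    (fun i hi => this i (mem_filter.1 hi).2), add_zero, filter_univ_mem]
  refine sum_congr rfl fun i hi => ?_
  rw [mem_inter] at hi; simp [word, hi.1, hi.2]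

/-- A word orthogonal to every octad lies in the code. -/
theorem mem_of_orth_octads (h : IsGolay C) {v : α → ZMod 2}
    (hv : ∀ w ∈ C, hammingNorm w = 8 → ∑ i, w i * v i = 0) : v ∈ C := by
  classical
  obtain ⟨u, hu⟩ : (smallReps C v).Nonempty := by
    rcases coset_cases h v with ⟨u, hu, -⟩ | ⟨h6, -⟩
    · rw [hu]; exact Set.singleton_nonempty u
    · exact Set.nonempty_of_ncard_ne_zero (by omega)
  by_cases hu0 : u = 0
  · simpa [hu0] using hu.1
  exfalso
  have horth : ∀ w ∈ C, hammingNorm w = 8 → ((supp w ∩ supp u).card : ZMod 2) = 0 := by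
    intro w hw h8
    rw [← dot_word]
    have h1 := h.orth w hw _ hu.1
    simp only [Pi.sub_apply, mul_sub, sum_sub_distrib, hv w hw h8, sub_zero] at h1
    exact h1
  have hU1 : 1 ≤ (supp u).card := by
    have := hammingNorm_pos_iff.2 hu0
    rw [hammingNorm_eq] at this; omega
  have hU4 : (supp u).card ≤ 4 := by have := hu.2; rwa [hammingNorm_eq] at this
  set U := supp u
  rcases Nat.even_or_odd U.card with hev | hodd
  · obtain ⟨s, hs⟩ : U.Nonempty := card_pos.1 (by omega)
    obtain ⟨T, hUT, hTsub, hT⟩ := exists_subsuperset_card_eq (n := 4)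
      (show U.erase s ⊆ univ.erase s from erase_subset_erase _ (subset_univ _))
      (by rw [card_erase_of_mem hs]; omega)
      (by rw [card_erase_of_mem (mem_univ s), card_univ, h.card_pts]; omega)
    have hsT : s ∉ T := fun hh => (mem_erase.1 (hTsub hh)).1 rfl
    obtain ⟨h6, hmem, hall, hcov⟩ := tetrad_partition h hT
    obtain ⟨u₁, hu₁, hsu₁⟩ := hcov s
    obtain ⟨x, hx, hxne⟩ : ∃ x ∈ smallReps C (word T), x ∉ ({word T, u₁} : Set (α → ZMod 2)) := by
      by_contra hno
      push Not at hno
      have := Set.ncard_le_ncard (show smallReps C (word T) ⊆ {word T, u₁} from hno)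
      have := Set.ncard_insert_le (word T) ({u₁} : Set (α → ZMod 2))
      rw [Set.ncard_singleton] at this
      omega
    simp only [Set.mem_insert_iff, Set.mem_singleton_iff, not_or] at hxne
    obtain ⟨w, hw, hw8, hws, hdisj⟩ := octad_of_reps h hT hx hxne.1
    have hsx : s ∉ supp x := fun hh =>
      (disjoint_left.1 ((hall x hx).2 u₁ hu₁ hxne.2) hh) hsu₁
    have hinter : supp w ∩ U = U.erase s := by
      ext i
      rw [hws, mem_inter, mem_union, mem_erase]
      constructor
      · rintro ⟨hi | hi, hiU⟩
        · exact ⟨fun e => hsT (e ▸ hi), hiU⟩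
        · exact ⟨fun e => hsx (e ▸ hi), hiU⟩
      · rintro ⟨hne, hiU⟩; exact ⟨Or.inl (hUT (mem_erase.2 ⟨hne, hiU⟩)), hiU⟩
    have := horth w hw hw8
    rw [hinter, card_erase_of_mem hs, ZMod.natCast_eq_zero_iff_even] at this
    obtain ⟨a, ha⟩ := hev; obtain ⟨b, hb⟩ := this
    omega
  · obtain ⟨T, hUT, -, hT⟩ := exists_subsuperset_card_eq (n := 4) (subset_univ U) hU4
      (by rw [card_univ, h.card_pts]; omega)
    obtain ⟨h6, hmem, hall, hcov⟩ := tetrad_partition h hT
    obtain ⟨x, hx, hxne⟩ := Set.exists_ne_of_one_lt_ncard (show 1 < (smallReps C (word T)).ncard by omega) (word T)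
    obtain ⟨w, hw, hw8, hws, hdisj⟩ := octad_of_reps h hT hx hxne
    have hinter : supp w ∩ U = U := inter_eq_right.2 (hUT.trans (hws ▸ subset_union_left))
    have := horth w hw hw8
    rw [hinter, ZMod.natCast_eq_zero_iff_even] at this
    exact (Nat.not_even_iff_odd.2 hodd) this

theorem span_octads (h : IsGolay C) :
    Submodule.span (ZMod 2) {w : α → ZMod 2 | w ∈ C ∧ hammingNorm w = 8} = C := by
  refine le_antisymm (Submodule.span_le.2 fun w hw => hw.1) fun c hc => ?_
  by_contra hcn
  obtain ⟨f, hfc, hfD⟩ := Submodule.exists_dual_map_eq_bot_of_notMem hcn inferInstance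
  let v : α → ZMod 2 := fun i => f (Pi.single i 1)
  have hf : ∀ w : α → ZMod 2, f w = ∑ i, w i * v i := by
    intro w
    conv_lhs => rw [pi_eq_sum_univ' w]
    simp [map_sum, v]
  have hvC : v ∈ C := by
    refine mem_of_orth_octads h fun w hw h8 => ?_
    rw [← hf]
    have h1 := Submodule.mem_map_of_mem (f := f) (Submodule.subset_span (R := ZMod 2)
      (show w ∈ {w : α → ZMod 2 | w ∈ C ∧ hammingNorm w = 8} from ⟨hw, h8⟩))
    rw [hfD] at h1
    exact (Submodule.mem_bot _).1 h1
  exact hfc (by rw [hf]; exact h.orth c hc v hvC)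

theorem four_dvd (h : IsGolay C) : ∀ w ∈ C, 4 ∣ hammingNorm w := by
  intro w hw
  rw [← span_octads h] at hw
  induction hw using Submodule.span_induction with
  | mem x hx => rw [hx.2]; norm_num
  | zero => simp
  | add x y hx hy ihx ihy =>
    rw [span_octads h] at hx hy
    have h0 := h.orth x hx y hy
    rw [dot_word, ZMod.natCast_eq_zero_iff_even] at h0
    obtain ⟨k, hk⟩ := h0
    rw [← sub_eq_add', hammingNorm_eq, supp_sub]
    rw [hammingNorm_eq] at ihx ihy
    have := symmDiff_card (supp x) (supp y)
    omega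
  | smul a x hx ihx =>
    have : a = 0 ∨ a = 1 := by revert a; decide
    rcases this with rfl | rfl
    · simp
    · rwa [one_smul]

theorem exists_octad (h : IsGolay C) : ∃ w ∈ C, hammingNorm w = 8 := by
  obtain ⟨s, -, hs⟩ := exists_subset_card_eq (s := (univ : Finset α)) (n := 5)
    (by rw [card_univ, h.card_pts]; norm_num)
  obtain ⟨w, ⟨hw, -⟩, -⟩ := existsUnique_octad h hs
  exact ⟨w, hw⟩

end Cfsg.Agent.Lib.BinCode24
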